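import Cfsg.Agent.Lib.Helper26.OutRigid2

set_option autoImplicit false

/-!
# A criterion for all automorphisms to be inner, when the normaliser of `⟨c⟩` induces only a
subgroup of index two of the automorphisms of `⟨c⟩`

`c` of prime order `p` generates a Sylow subgroup and is self-centralising, `u` acts on `⟨c⟩` as
the `k`-th power map, every unit modulo `p` is `k ^ i` or `r * k ^ i`.  After an inner
automorphism, an automorphism maps `c` to `c` or `c ^ r` and fixes `u`.  The centraliser of `u`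
contains exactly three involutions `u ^ 7`, `t`, `t * u ^ 7`; the three elements `c, u, t`
generate, and three relations exclude the three remaining candidates.
-/

namespace Cfsg.Agent.Lib.helper17.RuOut

open Subgroup Cfsg.Agent.Lib.Helper26.OutRigid
open scoped Pointwise

variable {G : Type*} [Group G]

/-- after an inner automorphism, an automorphism sends `c` to `c` or to `c ^ r` -/
theorem ruo_exists_conj [Finite G] (p : ℕ) [hp : Fact p.Prime] (k r : ℕ) (c u : G)
    (hfac : (Nat.card G).factorization p = 1) (hc : orderOf c = p)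
    (hu : u * c * u⁻¹ = c ^ k)
    (hk : ∀ j : ℕ, 0 < j → j < p → ∃ i : ℕ, k ^ i * j % p = 1 ∨ k ^ i * j % p = r)
    (α : MulAut G) : ∃ g : G, g * α c * g⁻¹ = c ∨ g * α c * g⁻¹ = c ^ r := by
  classical
  have hcmod : ∀ n : ℕ, c ^ n = c ^ (n % p) := by
    intro n
    rw [← hc, pow_mod_orderOf]
  have hαc : orderOf (α c) = p := by rw [MulEquiv.orderOf_eq, hc]
  have hex : ∃ g : G, g⁻¹ * α c * g ∈ zpowers c := by
    have hC : p ^ 1 ∣ Nat.card (zpowers c) := by rw [Nat.card_zpowers, hc, pow_one]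
    obtain ⟨K, hK⟩ := Sylow.exists_subgroup_card_pow_prime p hC
    let K' : Subgroup G := K.map (zpowers c).subtype
    have hK' : Nat.card K' = p ^ 1 := by
      rw [← hK]
      exact Subgroup.card_map_of_injective (zpowers c).subtype_injective
    have hK'le : K' ≤ zpowers c := by
      intro x hx
      obtain ⟨y, -, rfl⟩ := hx
      exact y.2
    let S : Sylow p G := Sylow.ofCard K' (by rw [hfac]; exact hK')
    have hSK : (S : Subgroup G) = K' := rfl
    have hzp : IsPGroup p (zpowers (α c)) := by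
      apply IsPGroup.of_card (n := 1)
      rw [Nat.card_zpowers, hαc, pow_one]
    obtain ⟨Q, hQ⟩ := hzp.exists_le_sylow
    obtain ⟨g, hg⟩ := MulAction.exists_smul_eq G S Q
    refine ⟨g, hK'le ?_⟩
    have hxQ : α c ∈ (Q : Subgroup G) := hQ (mem_zpowers (α c))
    rw [← hg] at hxQ
    have hxQ' : α c ∈ MulAut.conj g • (S : Subgroup G) := by
      rw [← Sylow.coe_subgroup_smul]
      exact hxQ
    rw [Subgroup.mem_pointwise_smul_iff_inv_smul_mem, hSK] at hxQ'
    have e : (MulAut.conj g)⁻¹ • α c = g⁻¹ * α c * g := by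
      rw [← map_inv, MulAut.smul_def, MulAut.conj_apply, inv_inv]
    rw [e] at hxQ'
    exact hxQ'
  obtain ⟨g, hg⟩ := hex
  rw [mem_zpowers_iff_mem_range_orderOf, Finset.mem_image] at hg
  obtain ⟨j, hj, hcj⟩ := hg
  rw [Finset.mem_range, hc] at hj
  have hj0 : 0 < j := by
    rcases Nat.eq_zero_or_pos j with h | h
    · exfalso
      rw [h, pow_zero] at hcj
      have h1 : α c = 1 := by
        calc α c = g * (g⁻¹ * α c * g) * g⁻¹ := by group
          _ = 1 := by rw [← hcj]; group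
      rw [h1, orderOf_one] at hαc
      exact hp.out.ne_one hαc.symm
    · exact h
  obtain ⟨i, hi⟩ := hk j hj0 hj
  refine ⟨u ^ i * g⁻¹, ?_⟩
  have e : u ^ i * g⁻¹ * α c * (u ^ i * g⁻¹)⁻¹ = u ^ i * (g⁻¹ * α c * g) * (u ^ i)⁻¹ := by
    group
  rw [e, ← hcj, pow_conj_pow hu, hcmod]
  rcases hi with h | h
  · left
    rw [h, pow_one]
  · right
    rw [h]

/-- after an inner automorphism, an automorphism sends `c` to `c` or `c ^ r` and fixes `u` -/
theorem ruo_exists_adjust [Finite G] (p : ℕ) [hp : Fact p.Prime] (k j r s : ℕ) (c u : G)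
    (hfac : (Nat.card G).factorization p = 1) (hc : orderOf c = p)
    (hCc : ∀ h : G, h * c = c * h → h ^ p = 1)
    (hu : u * c * u⁻¹ = c ^ k) (hk1 : 1 ≤ k)
    (hk : ∀ j : ℕ, 0 < j → j < p → ∃ i : ℕ, k ^ i * j % p = 1 ∨ k ^ i * j % p = r)
    (hrs : r * s % p = 1)
    (hj : j * (k - 1) % p = 1) (α : MulAut G) :
    ∃ g : G, ((MulAut.conj g * α) c = c ∨ (MulAut.conj g * α) c = c ^ r) ∧
      (MulAut.conj g * α) u = u := by
  classical
  have hcmod : ∀ n : ℕ, c ^ n = c ^ (n % p) := by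
    intro n
    rw [← hc, pow_mod_orderOf]
  have hcrs : c ^ (r * s) = c := by rw [hcmod, hrs, pow_one]
  obtain ⟨g, hg⟩ := ruo_exists_conj p k r c u hfac hc hu hk α
  set β : MulAut G := MulAut.conj g * α with hβ
  have hβc : β c = g * α c * g⁻¹ := by
    rw [hβ, MulAut.mul_apply, MulAut.conj_apply]
  have hv : β u * c * (β u)⁻¹ = c ^ k := by
    have h1 : β u * β c * (β u)⁻¹ = (β c) ^ k := by
      rw [← map_inv, ← map_mul, ← map_mul, hu, map_pow]
    rcases hg with hg | hg
    · rw [hβc, hg] at h1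
      exact h1
    · rw [hβc, hg] at h1
      calc β u * c * (β u)⁻¹ = β u * (c ^ r) ^ s * (β u)⁻¹ := by rw [← pow_mul, hcrs]
        _ = (β u * c ^ r * (β u)⁻¹) ^ s := by rw [conj_pow]
        _ = ((c ^ r) ^ k) ^ s := by rw [h1]
        _ = (c ^ (r * s)) ^ k := by
          rw [← pow_mul, ← pow_mul, ← pow_mul]
          congr 1
          ring
        _ = c ^ k := by rw [hcrs]
  set v := β u with hvdef
  have hwc : (v⁻¹ * u) * c = c * (v⁻¹ * u) := by
    have h1 : v⁻¹ * c ^ k * v = c := by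
      rw [← hv]
      group
    calc (v⁻¹ * u) * c = v⁻¹ * (u * c * u⁻¹) * u := by group
      _ = v⁻¹ * c ^ k * v * (v⁻¹ * u) := by rw [hu]; group
      _ = c * (v⁻¹ * u) := by rw [h1]
  have hwmem := mem_zpowers_of_centralizer p c hfac hc hCc _ hwc
  rw [mem_zpowers_iff_mem_range_orderOf, Finset.mem_image] at hwmem
  obtain ⟨m, -, hm⟩ := hwmem
  have huv : u = c ^ (k * m) * v := by
    have h1 : u = v * c ^ m := by rw [hm]; group
    have h2 : v * c ^ m * v⁻¹ = c ^ (k * m) := conj_pow_of_conj hv m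
    rw [h1, ← h2]
    group
  set a := k * m with ha
  set i := j * a with hi
  have hmod : (i + a) % p = (k * i) % p := by
    have h1 : k * i = i + (k - 1) * i := by
      have : k = 1 + (k - 1) := by omega
      calc k * i = (1 + (k - 1)) * i := by rw [← this]
        _ = i + (k - 1) * i := by ring
    have h2 : (k - 1) * i = (j * (k - 1)) * a := by rw [hi]; ring
    have hj' : j * (k - 1) ≡ 1 [MOD p] := by
      unfold Nat.ModEq
      rw [hj, Nat.mod_eq_of_lt hp.out.one_lt]
    have h3 : (j * (k - 1)) * a ≡ a [MOD p] := by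
      have := hj'.mul_right a
      rwa [one_mul] at this
    have h4 : i + a ≡ k * i [MOD p] := by
      rw [h1, h2]
      exact (Nat.ModEq.add_left i h3).symm
    exact h4
  have hpw : c ^ (i + a) = c ^ (k * i) := by
    rw [← hc] at hmod
    rw [← pow_mod_orderOf, hmod, pow_mod_orderOf]
  have hconj : (c ^ i)⁻¹ * v * c ^ i = u := by
    have h1 : v * c ^ i * v⁻¹ = c ^ (k * i) := conj_pow_of_conj hv i
    have h2 : v * c ^ i = c ^ (k * i) * v := by rw [← h1]; group
    calc (c ^ i)⁻¹ * v * c ^ i = (c ^ i)⁻¹ * (v * c ^ i) := by group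
      _ = (c ^ i)⁻¹ * (c ^ (i + a) * v) := by rw [h2, hpw]
      _ = c ^ a * v := by rw [pow_add]; group
      _ = u := huv.symm
  refine ⟨(c ^ i)⁻¹ * g, ?_, ?_⟩
  · have e : (MulAut.conj ((c ^ i)⁻¹ * g) * α) c = (c ^ i)⁻¹ * β c * c ^ i := by
      rw [map_mul, mul_assoc, ← hβ, MulAut.mul_apply, MulAut.conj_apply, inv_inv]
    rw [e, hβc]
    rcases hg with hg | hg
    · left
      rw [hg]
      have : c * c ^ i = c ^ i * c := by rw [← pow_succ', ← pow_succ]
      calc (c ^ i)⁻¹ * c * c ^ i = (c ^ i)⁻¹ * (c * c ^ i) := by group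
        _ = c := by rw [this]; group
    · right
      rw [hg]
      have : c ^ r * c ^ i = c ^ i * c ^ r := (Commute.pow_pow (Commute.refl c) r i).eq
      calc (c ^ i)⁻¹ * c ^ r * c ^ i = (c ^ i)⁻¹ * (c ^ r * c ^ i) := by group
        _ = c ^ r := by rw [this]; group
  · have e : (MulAut.conj ((c ^ i)⁻¹ * g) * α) u = (c ^ i)⁻¹ * β u * c ^ i := by
      rw [map_mul, mul_assoc, ← hβ, MulAut.mul_apply, MulAut.conj_apply, inv_inv]
    rw [e]
    exact hconj

/-- if the adjusted automorphisms are all trivial, every automorphism is inner -/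
theorem ruo_card_out_of_adjust (r : ℕ) (c u : G)
    (hadj : ∀ α : MulAut G, ∃ g : G,
      ((MulAut.conj g * α) c = c ∨ (MulAut.conj g * α) c = c ^ r) ∧ (MulAut.conj g * α) u = u)
    (hfin : ∀ γ : MulAut G, (γ c = c ∨ γ c = c ^ r) → γ u = u → γ = 1) :
    Nat.card (Cfsg.Out G) = 1 := by
  have key : ∀ α : MulAut G, α ∈ Cfsg.Inn G := by
    intro α
    obtain ⟨g, h1, h2⟩ := hadj α
    have h3 := hfin _ h1 h2
    have hα : α = (MulAut.conj g)⁻¹ := by
      apply eq_inv_of_mul_eq_one_right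
      exact h3
    rw [hα]
    exact Subgroup.inv_mem _ ⟨_, rfl⟩
  have htop : Cfsg.Inn G = ⊤ := by
    rw [eq_top_iff]
    intro α _
    exact key α
  have hidx : (Cfsg.Inn G).index = 1 := by rw [htop, Subgroup.index_top]
  exact hidx

/-- the criterion -/
theorem ruo_card_out [Finite G] (p : ℕ) [hp : Fact p.Prime] (k j r s n1 n3 : ℕ) (c u t : G)
    (hfac : (Nat.card G).factorization p = 1) (hc : orderOf c = p)
    (hCc : ∀ h : G, h * c = c * h → h ^ p = 1)
    (hu : u * c * u⁻¹ = c ^ k) (hk1 : 1 ≤ k)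
    (hk : ∀ j : ℕ, 0 < j → j < p → ∃ i : ℕ, k ^ i * j % p = 1 ∨ k ^ i * j % p = r)
    (hrs : r * s % p = 1) (hj : j * (k - 1) % p = 1)
    (ht1 : t ≠ 1) (htz : t ≠ u ^ 7) (ht2 : t * t = 1) (htu : t * u = u * t)
    (hCu : ∀ h : G, h * u = u * h → h * h = 1 → h = 1 ∨ h = u ^ 7 ∨ h = t ∨ h = t * u ^ 7)
    (hgen : closure {c, u, t} = ⊤)
    (hrel1 : (c * t) ^ n1 = 1) (hnrel1 : (c ^ r * t) ^ n1 ≠ 1)
    (hnrel2 : (c * (t * u ^ 7)) ^ n1 ≠ 1)
    (hrel3 : (c * u * t) ^ n3 = 1) (hnrel3 : (c ^ r * u * (t * u ^ 7)) ^ n3 ≠ 1) :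
    Nat.card (Cfsg.Out G) = 1 := by
  apply ruo_card_out_of_adjust r c u
    (ruo_exists_adjust p k j r s c u hfac hc hCc hu hk1 hk hrs hj)
  intro γ hγc hγu
  have h1 : γ t * u = u * γ t := by
    calc γ t * u = γ t * γ u := by rw [hγu]
      _ = γ (t * u) := (map_mul γ t u).symm
      _ = γ (u * t) := by rw [htu]
      _ = u * γ t := by rw [map_mul, hγu]
  have h2 : γ t * γ t = 1 := by rw [← map_mul, ht2, map_one]
  have hγz : γ (u ^ 7) = u ^ 7 := by rw [map_pow, hγu]
  rcases hCu (γ t) h1 h2 with h | h | h | h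
  · exfalso
    apply ht1
    have : γ t = γ 1 := by rw [h, map_one]
    exact γ.injective this
  · exfalso
    apply htz
    have : γ t = γ (u ^ 7) := by rw [h, hγz]
    exact γ.injective this
  · rcases hγc with hγc | hγc
    · apply aut_eq_one_of_closure {c, u, t} hgen
      intro x hx
      rcases hx with rfl | rfl | rfl
      · exact hγc
      · exact hγu
      · exact h
    · exfalso
      apply hnrel1
      have h3 : γ ((c * t) ^ n1) = (c ^ r * t) ^ n1 := by
        rw [map_pow, map_mul, hγc, h]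
      rw [← h3, hrel1, map_one]
  · exfalso
    rcases hγc with hγc | hγc
    · apply hnrel2
      have h3 : γ ((c * t) ^ n1) = (c * (t * u ^ 7)) ^ n1 := by
        rw [map_pow, map_mul, hγc, h]
      rw [← h3, hrel1, map_one]
    · apply hnrel3
      have h3 : γ ((c * u * t) ^ n3) = (c ^ r * u * (t * u ^ 7)) ^ n3 := by
        rw [map_pow, map_mul, map_mul, hγc, hγu, h]
      rw [← h3, hrel3, map_one]

end Cfsg.Agent.Lib.helper17.RuOut
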