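import Cfsg.Agent.Lib.helper17.RuOut.Defs

set_option autoImplicit false
set_option maxRecDepth 1000000

/-!
# The outer automorphism group of the Rudvalis group: the small checks
-/

namespace Cfsg.Agent.Lib.helper17.RuOut

open Cfsg.Agent.Lib.helper23

theorem ruou_ok : ruouP.ok 4060 = true := by decide +kernel

theorem ruot_ok : ruotP.ok 4060 = true := by decide +kernel

theorem ruox_ok : ruoxP.ok 4060 = true := by decide +kernel

theorem ruoy_ok : ruoyP.ok 4060 = true := by decide +kernel

theorem ruou_linF : pgChkLinFun 4060 28 ruv (rucol ruoUM) (rulk ruoUT) = true := by decide +kernel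

theorem ruou_linG : pgChkLinFun 4060 28 ruv (rucol ruoUMI) (rulk ruoUI) = true := by
  decide +kernel

theorem ruot_linF : pgChkLinFun 4060 28 ruv (rucol ruoTM) (rulk ruoTT) = true := by decide +kernel

theorem ruox_linF : pgChkLinFun 4060 28 ruv (rucol ruoXM) (rulk ruoXT) = true := by decide +kernel

theorem ruox_linG : pgChkLinFun 4060 28 ruv (rucol ruoXMI) (rulk ruoXI) = true := by
  decide +kernel

theorem ruoy_linF : pgChkLinFun 4060 28 ruv (rucol ruoYM) (rulk ruoYT) = true := by decide +kernel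

theorem ruoy_linG : pgChkLinFun 4060 28 ruv (rucol ruoYMI) (rulk ruoYI) = true := by
  decide +kernel

theorem ruou_sift : pgSiftW 4060 rubase ruC ruouP.f = true := by decide +kernel

theorem ruot_sift : pgSiftW 4060 rubase ruC ruotP.f = true := by decide +kernel

theorem ruox_sift : pgSiftW 4060 rubase ruC ruoxP.f = true := by decide +kernel

theorem ruoy_sift : pgSiftW 4060 rubase ruC ruoyP.f = true := by decide +kernel

/-- `c ^ 29 = 1` -/
theorem ruoc_pow : pgAll 4060 (fun p => Nat.beq (pgIter ruocP.f 29 p) p) = true := by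
  decide +kernel

/-- `c` moves the point `0` -/
theorem ruoc_zero : Nat.beq (ruocP.f 0) 0 = false := by decide +kernel

/-- `u * c = c ^ 4 * u` -/
theorem ruouc : pgEq 4060 (fun p => ruouP.f (ruocP.f p))
    (fun p => ruocP.f (ruocP.f (ruocP.f (ruocP.f (ruouP.f p))))) = true := by decide +kernel

/-- `t * t = 1` -/
theorem ruott : pgEq 4060 (fun p => ruotP.f (ruotP.f p)) (fun p => p) = true := by decide +kernel

/-- `t ≠ 1` -/
theorem ruot_ne1 : pgEq 4060 ruotP.f (fun p => p) = false := by decide +kernel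

/-- `t ≠ u ^ 7` -/
theorem ruot_ne : pgEq 4060 ruotP.f (pgIter ruouP.f 7) = false := by decide +kernel

/-- `t * u = u * t` -/
theorem ruotu : pgEq 4060 (fun p => ruotP.f (ruouP.f p)) (fun p => ruouP.f (ruotP.f p)) = true := by
  decide +kernel

/-- `(c * t) ^ 29 = 1` -/
theorem ruorel1 : pgEq 4060 (pgIter (fun q => ruocP.f (ruotP.f q)) 29) (fun p => p) = true := by
  decide +kernel

/-- `(c ^ 2 * t) ^ 29 ≠ 1` -/
theorem ruonrel1 : pgEq 4060 (pgIter (fun q => ruocP.f (ruocP.f (ruotP.f q))) 29) (fun p => p) =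
    false := by decide +kernel

/-- `(c * (t * u ^ 7)) ^ 29 ≠ 1` -/
theorem ruonrel2 : pgEq 4060 (pgIter (fun q => ruocP.f (ruotP.f (pgIter ruouP.f 7 q))) 29)
    (fun p => p) = false := by decide +kernel

/-- `(c * u * t) ^ 20 = 1` -/
theorem ruorel3 : pgEq 4060 (pgIter (fun q => ruocP.f (ruouP.f (ruotP.f q))) 20) (fun p => p) =
    true := by decide +kernel

/-- `(c ^ 2 * u * (t * u ^ 7)) ^ 20 ≠ 1` -/
theorem ruonrel3 : pgEq 4060 (pgIter (fun q => ruocP.f (ruocP.f (ruouP.f (ruotP.f
    (pgIter ruouP.f 7 q))))) 20) (fun p => p) = false := by decide +kernel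

/-- the generators of the chain are words in `c, u, t` -/
theorem ruowords : pgAll (pgOwnW ruC).length (fun j => pgAll 4060 (fun p =>
    Nat.beq (((pgOwnW ruC).getD j PFun.one).f p)
      (pgEvalW ruogs ([[0], ruoW1].getD j []) p))) = true := by decide +kernel

end Cfsg.Agent.Lib.helper17.RuOut
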