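import Cfsg.Agent.Lib.helper17.RuOut.Defs

set_option autoImplicit false
set_option maxRecDepth 1000000

/-!
# The outer automorphism group of the Rudvalis group: the two centralisers
-/

namespace Cfsg.Agent.Lib.helper17.RuOut

open Cfsg.Agent.Lib.helper23

theorem ruocentc_0 : ruoPiece ruovc ruoOrb ruotestC ruL1 ruoC2 0 2030 = true := by
  decide +kernel

theorem ruocentc_1 : ruoPiece ruovc ruoOrb ruotestC ruL1 ruoC2 2030 2030 = true := by
  decide +kernel

theorem ruocentu_0 : ruoPiece ruovu ruoOrb ruotestU ruL1 ruoC2 0 2030 = true := by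
  decide +kernel

theorem ruocentu_1 : ruoPiece ruovu ruoOrb ruotestU ruL1 ruoC2 2030 2030 = true := by
  decide +kernel

theorem ruoorb4 : pgAll 4060 (fun z => cond (ruL4.inO z)
    (pgAnyL [3, 31, 429, 546, 1065, 1207] (fun o => Nat.beq z o)) true) = true := by
  decide +kernel

theorem ruoorb5 : pgAll 4060 (fun z => cond (ruL5.inO z)
    (pgAnyL [6, 8, 21, 22] (fun o => Nat.beq z o)) true) = true := by
  decide +kernel

theorem ruocentc (z : ℕ) (hz : z < 4060) : ruoEnumTop ruovc ruoOrb ruotestC ruL1 ruoC2 z = true := by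
  by_cases h : z < 2030
  · exact ruoPiece_spec ruocentc_0 z (by omega) (by omega)
  · exact ruoPiece_spec ruocentc_1 z (by omega) (by omega)

theorem ruocentu (z : ℕ) (hz : z < 4060) : ruoEnumTop ruovu ruoOrb ruotestU ruL1 ruoC2 z = true := by
  by_cases h : z < 2030
  · exact ruoPiece_spec ruocentu_0 z (by omega) (by omega)
  · exact ruoPiece_spec ruocentu_1 z (by omega) (by omega)

end Cfsg.Agent.Lib.helper17.RuOut
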