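import Cfsg.Agent.Lib.helper23.PgW

set_option autoImplicit false

/-!
# A fast enumeration of the centraliser of a permutation in the group of a checked chain

When a base point is the image under `v` of the previous base point, the image of that base point
under an element commuting with `v` is known, and the transversal element is found with the
inverse of the product of the transversal elements chosen so far, without a scan of the orbit.
At the leaves the tests compare functions on the base only (the ambient group is rigid).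
-/

namespace Cfsg.Agent.Lib.helper17.RuOut

open Cfsg.Agent.Lib.helper23 Subgroup

/-- the tail of the enumeration of the centraliser of the permutation with lookup function `vf`:
`pre` is the product of the transversal elements chosen so far, `pinv` its inverse, `y` the image
of the previous base point `b`; `orb` gives a list containing the orbit of a base point, for the
levels that are scanned -/
def ruoEnumT (vf : ℕ → ℕ) (orb : ℕ → List ℕ) (test : (ℕ → ℕ) → Bool) :
    List PgLvlW → (ℕ → ℕ) → (ℕ → ℕ) → ℕ → ℕ → Bool :=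
  @List.rec PgLvlW (fun _ => (ℕ → ℕ) → (ℕ → ℕ) → ℕ → ℕ → Bool)
    (fun pre _ b y => cond (Nat.beq (pre (vf b)) (vf y)) (test pre) true)
    (fun L _ ih pre pinv b y =>
      cond (Nat.beq L.b (vf b))
        (pgForce (vf y) (fun y' => pgForce (pinv y') (fun z => cond (L.inO z)
          (ih (fun p => pre (pgEvalW L.own (L.path z) p))
            (fun p => pgEvalW L.own (pgInvW L.own.length (L.path z)) (pinv p)) L.b y') true)))
        (pgAllL (orb L.b) (fun z => cond (L.inO z)
          (pgForce (pre z) (fun y' =>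
            ih (fun p => pre (pgEvalW L.own (L.path z) p))
              (fun p => pgEvalW L.own (pgInvW L.own.length (L.path z)) (pinv p)) L.b y')) true)))

theorem ruoEnumT_nil (vf : ℕ → ℕ) (orb : ℕ → List ℕ) (test : (ℕ → ℕ) → Bool)
    (pre pinv : ℕ → ℕ) (b y : ℕ) :
    ruoEnumT vf orb test [] pre pinv b y =
      cond (Nat.beq (pre (vf b)) (vf y)) (test pre) true := rfl

theorem ruoEnumT_cons (vf : ℕ → ℕ) (orb : ℕ → List ℕ) (test : (ℕ → ℕ) → Bool) (L : PgLvlW)
    (C : List PgLvlW) (pre pinv : ℕ → ℕ) (b y : ℕ) :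
    ruoEnumT vf orb test (L :: C) pre pinv b y =
      cond (Nat.beq L.b (vf b))
        (pgForce (vf y) (fun y' => pgForce (pinv y') (fun z => cond (L.inO z)
          (ruoEnumT vf orb test C (fun p => pre (pgEvalW L.own (L.path z) p))
            (fun p => pgEvalW L.own (pgInvW L.own.length (L.path z)) (pinv p)) L.b y') true)))
        (pgAllL (orb L.b) (fun z => cond (L.inO z)
          (pgForce (pre z) (fun y' =>
            ruoEnumT vf orb test C (fun p => pre (pgEvalW L.own (L.path z) p))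
              (fun p => pgEvalW L.own (pgInvW L.own.length (L.path z)) (pinv p)) L.b y'))
          true)) := rfl

/-- the decomposition of an element of the group of a level -/
theorem ruo_step {n : ℕ} (R : PgRigid n) {L : PgLvlW} {C : List PgLvlW}
    (hchk : pgChkW n R.base (L :: C) = true) (hA : pgGrpW n (L :: C) ≤ R.A)
    (h' : Equiv.Perm (Fin n)) (hh' : h' ∈ pgGrpW n (L :: C)) :
    ∃ hb : L.b < n, L.inO (h' ⟨L.b, hb⟩).1 = true ∧ ∃ u : Equiv.Perm (Fin n),
      PgRep (fun p => pgEvalW L.own (L.path (h' ⟨L.b, hb⟩).1) p) u ∧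
      PgRep (fun p => pgEvalW L.own (pgInvW L.own.length (L.path (h' ⟨L.b, hb⟩).1)) p) u⁻¹ ∧
      u⁻¹ * h' ∈ pgGrpW n C := by
  obtain ⟨hb, hstab, -, -, -⟩ := pgLvlW_main R hchk hA
  have horb := pgLvlW_orbit R hchk hA hb h' hh'
  have hchk' := hchk
  rw [pgChkW_cons, Bool.and_eq_true] at hchk'
  have h1 := hchk'.1
  unfold pgChkLvlW at h1
  rw [Bool.and_eq_true] at h1
  obtain ⟨-, -, hok, -, -, hU, -⟩ := pgChkLvlW0_spec h1.1
  refine ⟨hb, horb, ?_⟩
  set z : Fin n := h' ⟨L.b, hb⟩ with hz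
  set u := pgWordPerm n L.own (L.path z.1) with hu
  have humem : u ∈ pgGrpW n (L :: C) := pgWordPerm_mem hok _
  have hub : u ⟨L.b, hb⟩ = z := by
    apply Fin.ext
    rw [hu, pgWordPerm_apply hok]
    exact (hU z.1 z.2 horb).2
  refine ⟨u, ?_, ?_, ?_⟩
  · intro p
    rw [hu, pgWordPerm_apply hok]
  · intro p
    rw [hu, ← pgInvW_perm hok _ (hU z.1 z.2 horb).1, pgWordPerm_apply hok]
  · apply hstab _ (mul_mem (inv_mem humem) hh')
    rw [Equiv.Perm.mul_apply, ← hz, ← hub]
    simp

theorem ruoEnumT_sound {n : ℕ} (R : PgRigid n) (vf : ℕ → ℕ) (orb : ℕ → List ℕ)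
    (v : Equiv.Perm (Fin n))
    (hv : PgRep vf v) (test : (ℕ → ℕ) → Bool) (h : Equiv.Perm (Fin n))
    (hc : ∀ p : Fin n, h (v p) = v (h p)) :
    ∀ C : List PgLvlW, pgChkW n R.base C = true → pgGrpW n C ≤ R.A →
    (∀ L ∈ C, ∀ z < n, L.inO z = true → z ∈ orb L.b) →
    ∀ (pre pinv : ℕ → ℕ) (W : Equiv.Perm (Fin n)) (b y : ℕ),
      PgRep pre W → PgRep pinv W⁻¹ → (∃ hb : b < n, (h ⟨b, hb⟩).1 = y) →
      ruoEnumT vf orb test C pre pinv b y = true →
      ∀ h' ∈ pgGrpW n C, h = W * h' → ∃ f : ℕ → ℕ, PgRep f h ∧ test f = true := by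
  intro C
  induction C with
  | nil =>
    intro _ _ _ pre pinv W b y hpre _ hby hen h' hh' hW
    rw [pgGrpW_nil, Subgroup.mem_bot] at hh'
    rw [hh', mul_one] at hW
    rw [ruoEnumT_nil] at hen
    have hpre' : PgRep pre h := by
      rw [hW]
      exact hpre
    obtain ⟨hbn, hbyy⟩ := hby
    have e1 : Nat.beq (pre (vf b)) (vf y) = true := by
      rw [Nat.beq_eq]
      have e2 : vf b = (v ⟨b, hbn⟩).1 := hv ⟨b, hbn⟩
      rw [e2, hpre' (v ⟨b, hbn⟩), hc, ← hbyy, hv]
    rw [e1] at hen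
    exact ⟨pre, hpre', hen⟩
  | cons L C ih =>
    intro hchk hA horbs pre pinv W b y hpre hpinv hby hen h' hh' hW
    obtain ⟨-, -, -, -, hmono⟩ := pgLvlW_main R hchk hA
    obtain ⟨hb, horb, u, hu1, hu2, hu3⟩ := ruo_step R hchk hA h' hh'
    set z : Fin n := h' ⟨L.b, hb⟩ with hz
    have hy : pre z.1 = (h ⟨L.b, hb⟩).1 := by
      rw [hpre z, hW, Equiv.Perm.mul_apply]
    have hpre' : PgRep (fun p => pre (pgEvalW L.own (L.path z.1) p)) (W * u) := hpre.mul hu1
    have hpinv' : PgRep (fun p => pgEvalW L.own (pgInvW L.own.length (L.path z.1)) (pinv p))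
        (W * u)⁻¹ := by
      rw [mul_inv_rev]
      exact hu2.mul hpinv
    have hW' : h = W * u * (u⁻¹ * h') := by rw [hW]; group
    have horbs' : ∀ L' ∈ C, ∀ z < n, L'.inO z = true → z ∈ orb L'.b :=
      fun L' hL' => horbs L' (List.mem_cons_of_mem _ hL')
    rw [ruoEnumT_cons] at hen
    by_cases hal : Nat.beq L.b (vf b) = true
    · rw [hal] at hen
      simp only [cond_true, pgForce_eq] at hen
      obtain ⟨hbn, hbyy⟩ := hby
      have hLb : L.b = (v ⟨b, hbn⟩).1 := by
        rw [← hv ⟨b, hbn⟩]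
        exact Nat.eq_of_beq_eq_true hal
      have e1 : (h ⟨L.b, hb⟩).1 = vf y := by
        have e0 : (⟨L.b, hb⟩ : Fin n) = v ⟨b, hbn⟩ := Fin.ext hLb
        rw [e0, hc, ← hbyy, hv]
      have e2 : pinv (vf y) = z.1 := by
        rw [← e1, hpinv (h ⟨L.b, hb⟩), hW, hz]
        simp
      rw [e2, horb] at hen
      simp only [cond_true] at hen
      exact ih (pgChkW_tail hchk) (le_trans hmono hA) horbs' _ _ (W * u) L.b (vf y) hpre' hpinv'
        ⟨hb, e1⟩ hen _ hu3 hW'
    · have hal' : Nat.beq L.b (vf b) = false := by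
        cases hq : Nat.beq L.b (vf b)
        · rfl
        · exact absurd hq hal
      rw [hal'] at hen
      simp only [cond_false] at hen
      have hen1 := (pgAllL_iff _ _).1 hen z.1 (horbs L List.mem_cons_self z.1 z.2 horb)
      rw [horb] at hen1
      simp only [cond_true, pgForce_eq] at hen1
      exact ih (pgChkW_tail hchk) (le_trans hmono hA) horbs' _ _ (W * u) L.b (pre z.1) hpre'
        hpinv' ⟨hb, hy.symm⟩ hen1 _ hu3 hW'

/-- the enumeration for one image of the first base point -/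
def ruoEnumTop (vf : ℕ → ℕ) (orb : ℕ → List ℕ) (test : (ℕ → ℕ) → Bool) (L : PgLvlW)
    (C : List PgLvlW) (z : ℕ) : Bool :=
  cond (L.inO z)
    (ruoEnumT vf orb test C (fun p => pgEvalW L.own (L.path z) p)
      (fun p => pgEvalW L.own (pgInvW L.own.length (L.path z)) p) L.b z) true

/-- the images `lo, …, lo + cnt - 1` of the first base point -/
def ruoPiece (vf : ℕ → ℕ) (orb : ℕ → List ℕ) (test : (ℕ → ℕ) → Bool) (L : PgLvlW)
    (C : List PgLvlW) (lo cnt : ℕ) : Bool :=
  pgAll cnt (fun k => pgForce (Nat.add lo k) (fun z => ruoEnumTop vf orb test L C z))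

theorem ruoPiece_spec {vf : ℕ → ℕ} {orb : ℕ → List ℕ} {test : (ℕ → ℕ) → Bool} {L : PgLvlW}
    {C : List PgLvlW} {lo cnt : ℕ} (h : ruoPiece vf orb test L C lo cnt = true) (z : ℕ)
    (h1 : lo ≤ z) (h2 : z < lo + cnt) : ruoEnumTop vf orb test L C z = true := by
  have := (pgAll_iff _ _).1 h (z - lo) (by omega)
  rw [pgForce_eq] at this
  have e : Nat.add lo (z - lo) = z := by simp only [Nat.add_eq]; omega
  rw [e] at this
  exact this

/-- the elements commuting with `v` satisfy the test -/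
theorem ruoCent_sound {n : ℕ} (R : PgRigid n) {L : PgLvlW} {C : List PgLvlW}
    (hchk : pgChkW n R.base (L :: C) = true) (hA : pgGrpW n (L :: C) ≤ R.A)
    (vf : ℕ → ℕ) (orb : ℕ → List ℕ) (test : (ℕ → ℕ) → Bool) (v : Equiv.Perm (Fin n))
    (hv : PgRep vf v) (horbs : ∀ L' ∈ C, ∀ z < n, L'.inO z = true → z ∈ orb L'.b)
    (hen : ∀ z < n, ruoEnumTop vf orb test L C z = true) :
    ∀ h ∈ pgGrpW n (L :: C), h * v = v * h → ∃ f : ℕ → ℕ, PgRep f h ∧ test f = true := by
  intro h hh hcomm
  have hc : ∀ p : Fin n, h (v p) = v (h p) := by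
    intro p
    rw [← Equiv.Perm.mul_apply, ← Equiv.Perm.mul_apply, hcomm]
  obtain ⟨-, -, -, -, hmono⟩ := pgLvlW_main R hchk hA
  obtain ⟨hb, horb, u, hu1, hu2, hu3⟩ := ruo_step R hchk hA h hh
  have hen1 := hen (h ⟨L.b, hb⟩).1 (h ⟨L.b, hb⟩).2
  unfold ruoEnumTop at hen1
  rw [horb] at hen1
  simp only [cond_true] at hen1
  exact ruoEnumT_sound R vf orb v hv test h hc C (pgChkW_tail hchk) (le_trans hmono hA) horbs _ _ u
    L.b
    (h ⟨L.b, hb⟩).1 hu1 hu2 ⟨hb, rfl⟩ hen1 _ hu3 (by group)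

/-! ### Tests on the base -/

/-- equality of two functions on a list of points -/
def ruoEqL (l : List ℕ) (F G : ℕ → ℕ) : Bool := pgAllL l (fun β => Nat.beq (F β) (G β))

theorem ruoEqL_of_eq {n : ℕ} (l : List ℕ) (hl : ∀ β ∈ l, β < n) {F G : ℕ → ℕ}
    {a : Equiv.Perm (Fin n)} (hF : PgRep F a) (hG : PgRep G a) : ruoEqL l F G = true := by
  unfold ruoEqL
  rw [pgAllL_iff]
  intro β hβ
  rw [Nat.beq_eq]
  have h1 := hF ⟨β, hl β hβ⟩
  have h2 := hG ⟨β, hl β hβ⟩
  simp only at h1 h2
  rw [h1, h2]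

/-- in a rigid group, two elements that agree on the base are equal -/
theorem ruoEqL_rigid {n : ℕ} (R : PgRigid n) {F G : ℕ → ℕ} {a b : Equiv.Perm (Fin n)}
    (ha : a ∈ R.A) (hb : b ∈ R.A) (hF : PgRep F a) (hG : PgRep G b)
    (h : ruoEqL R.base F G = true) : a = b := by
  unfold ruoEqL at h
  rw [pgAllL_iff] at h
  have h1 : b⁻¹ * a = 1 := by
    apply R.rigid _ (mul_mem (inv_mem hb) ha)
    intro β hβ hβn
    have h2 := h β hβ
    rw [Nat.beq_eq] at h2
    have h3 : a ⟨β, hβn⟩ = b ⟨β, hβn⟩ := by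
      apply Fin.ext
      rw [← hF ⟨β, hβn⟩, ← hG ⟨β, hβn⟩]
      exact h2
    rw [Equiv.Perm.mul_apply, h3]
    simp
  calc a = b * (b⁻¹ * a) := by group
    _ = b := by rw [h1, mul_one]

/-- the test for a centraliser generated by `v`: an element commuting with `v` agrees on the base
with a power of `v`; `l` is the base in another order -/
def ruoTestC (l l' : List ℕ) (vf : ℕ → ℕ) (Ks : List ℕ) (f : ℕ → ℕ) : Bool :=
  cond (ruoEqL l' (fun p => f (vf p)) (fun p => vf (f p)))
    (pgAnyL Ks (fun k => ruoEqL l f (pgIter vf k))) true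

/-- the test for the involutions of a centraliser: an element of square one commuting with `v`
agrees on the base with one of the listed functions -/
def ruoTestI (l l' : List ℕ) (vf : ℕ → ℕ) (cands : List (ℕ → ℕ)) (f : ℕ → ℕ) : Bool :=
  cond (ruoEqL l' (fun p => f (vf p)) (fun p => vf (f p)))
    (cond (ruoEqL l' (fun p => f (f p)) (fun p => p)) (pgAnyL cands (fun g => ruoEqL l f g)) true)
    true

theorem ruoTestC_spec {n : ℕ} {l l' : List ℕ} (hl' : ∀ β ∈ l', β < n) {vf : ℕ → ℕ}
    {Ks : List ℕ} {f : ℕ → ℕ} {h v : Equiv.Perm (Fin n)} (hf : PgRep f h) (hv : PgRep vf v)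
    (hcomm : h * v = v * h) (ht : ruoTestC l l' vf Ks f = true) :
    ∃ k ∈ Ks, ruoEqL l f (pgIter vf k) = true := by
  unfold ruoTestC at ht
  have h1 : ruoEqL l' (fun p => f (vf p)) (fun p => vf (f p)) = true := by
    have e : PgRep (fun p => vf (f p)) (h * v) := by
      rw [hcomm]
      exact hv.mul hf
    exact ruoEqL_of_eq l' hl' (hf.mul hv) e
  rw [h1] at ht
  simp only [cond_true] at ht
  exact (pgAnyL_iff _ _).1 ht

theorem ruoTestI_spec {n : ℕ} {l l' : List ℕ} (hl' : ∀ β ∈ l', β < n) {vf : ℕ → ℕ}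
    {cands : List (ℕ → ℕ)} {f : ℕ → ℕ} {h v : Equiv.Perm (Fin n)} (hf : PgRep f h)
    (hv : PgRep vf v) (hcomm : h * v = v * h) (hsq : h * h = 1)
    (ht : ruoTestI l l' vf cands f = true) : ∃ g ∈ cands, ruoEqL l f g = true := by
  unfold ruoTestI at ht
  have h1 : ruoEqL l' (fun p => f (vf p)) (fun p => vf (f p)) = true := by
    have e : PgRep (fun p => vf (f p)) (h * v) := by
      rw [hcomm]
      exact hv.mul hf
    exact ruoEqL_of_eq l' hl' (hf.mul hv) e
  have h2 : ruoEqL l' (fun p => f (f p)) (fun p => p) = true := by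
    have e : PgRep (fun p => p) (h * h) := by
      rw [hsq]
      exact PgRep.one
    exact ruoEqL_of_eq l' hl' (hf.mul hf) e
  rw [h1, h2] at ht
  simp only [cond_true] at ht
  exact (pgAnyL_iff _ _).1 ht

end Cfsg.Agent.Lib.helper17.RuOut
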