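import Cfsg.Agent.Lib.helper17.RuOut.Data
import Cfsg.Agent.Lib.helper23.RuMain
import Cfsg.Agent.Lib.helper23.PgW
import Cfsg.Agent.Lib.helper17.RuOut.Fast

set_option autoImplicit false

/-!
# The outer automorphism group of the Rudvalis group: the coded elements and the tests
-/

namespace Cfsg.Agent.Lib.helper17.RuOut

open Cfsg.Agent.Lib.helper23

/-- the element of order 29: the first generator of the model -/
def ruocP : PFun := rugen ruT1x0 ruI1x0

/-- the element of order 14 -/
def ruouP : PFun := rugen ruoUT ruoUI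

/-- the involution -/
def ruotP : PFun := rugen ruoTT ruoTT

/-- the element conjugating `c` -/
def ruoxP : PFun := rugen ruoXT ruoXI

/-- the element conjugating `u` -/
def ruoyP : PFun := rugen ruoYT ruoYI

/-- the three generators -/
def ruogs : List PFun := [ruocP, ruouP, ruotP]

/-- the conjugate of `c` by `x` -/
def ruovc (p : ℕ) : ℕ := ruoxP.f (ruocP.f (ruoxP.g p))

/-- the conjugate of `u` by `y` -/
def ruovu (p : ℕ) : ℕ := ruoyP.f (ruouP.f (ruoyP.g p))

/-- the conjugate of `u ^ 7` by `y` -/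
def ruozf (p : ℕ) : ℕ := ruoyP.f (pgIter ruouP.f 7 (ruoyP.g p))

/-- the conjugate of `t` by `y` -/
def ruosf (p : ℕ) : ℕ := ruoyP.f (ruotP.f (ruoyP.g p))

/-- the conjugate of `t * u ^ 7` by `y` -/
def ruoszf (p : ℕ) : ℕ := ruoyP.f (ruotP.f (pgIter ruouP.f 7 (ruoyP.g p)))

/-- the exponents of the powers of the conjugate of `c` -/
def ruoKs : List ℕ := [0, 1, 2, 3, 4, 5, 6, 7, 8, 9, 10, 11, 12, 13, 14, 15, 16, 17, 18, 19, 20, 21,
  22, 23, 24, 25, 26, 27, 28]

/-- the base in the reverse order -/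
def ruobaseR : List ℕ := [2012, 988, 604, 348, 156, 108, 84, 76, 52, 48, 46, 37, 36, 20, 16, 15,
  14, 12, 11, 10, 8, 7, 6, 4, 3, 2, 1, 0]

/-- lists containing the orbits of the last two levels -/
def ruoOrb (b : ℕ) : List ℕ :=
  cond (Nat.beq b 3) [3, 31, 429, 546, 1065, 1207]
    (cond (Nat.beq b 6) [6, 8, 21, 22] (List.range 4060))

/-- the test at the leaves for the centraliser of the conjugate of `c` -/
def ruotestC : (ℕ → ℕ) → Bool := ruoTestC rubase ruobaseR ruovc ruoKs

/-- the test at the leaves for the centraliser of the conjugate of `u` -/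
def ruotestU : (ℕ → ℕ) → Bool :=
  ruoTestI rubase ruobaseR ruovu [fun p => p, ruozf, ruosf, ruoszf]

/-- the tail of the chain -/
def ruoC2 : List PgLvlW := [ruL2, ruL3, ruL4, ruL5]

end Cfsg.Agent.Lib.helper17.RuOut
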