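import Cfsg.Agent.Lib.helper17.RuOut.ChkA
import Cfsg.Agent.Lib.helper17.RuOut.ChkB
import Cfsg.Agent.Lib.helper17.RuOut.Adjust
import Cfsg.Agent.Lib.helper23.PgJ

set_option autoImplicit false
set_option maxRecDepth 1000000

/-!
# The outer automorphism group of the Rudvalis group is trivial (on the concrete group on 4060
points)
-/

namespace Cfsg.Agent.Lib.helper17.RuOut

open Cfsg.Agent.Lib.helper23 Subgroup

/-- the concrete Rudvalis group on 4060 points -/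
abbrev RuG : Subgroup (Equiv.Perm (Fin 4060)) := pgGrpW 4060 ruC

theorem ruo_mem {P : PFun} (M M' : ℕ) (hok : P.ok 4060 = true)
    (h1 : pgChkLinFun 4060 28 ruv (rucol M) P.f = true)
    (h2 : pgChkLinFun 4060 28 ruv (rucol M') P.g = true)
    (hs : pgSiftW 4060 rubase ruC P.f = true) : P.perm 4060 ∈ RuG :=
  pgSift_mem ruR ruchkC ruA hok (pgLin_mem hok (rucol M) (rucol M') h1 h2) hs

theorem ruoc_own : ruocP ∈ pgOwnW ruC := by
  change ruocP ∈ [rugen ruT1x0 ruI1x0, rugen ruT1x1 ruI1x1]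
  exact List.mem_cons_self

theorem ruoc_ok : ruocP.ok 4060 = true := ruok ruocP ruoc_own

/-- the element of order 29 -/
def ruoc : ↥RuG := ⟨ruocP.perm 4060, subset_closure ⟨ruocP, ruoc_own, rfl⟩⟩

/-- the element of order 14 -/
def ruou : ↥RuG := ⟨ruouP.perm 4060, ruo_mem ruoUM ruoUMI ruou_ok ruou_linF ruou_linG ruou_sift⟩

/-- the involution -/
def ruot : ↥RuG := ⟨ruotP.perm 4060, ruo_mem ruoTM ruoTM ruot_ok ruot_linF ruot_linF ruot_sift⟩

/-- the element conjugating `c` -/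
def ruox : ↥RuG := ⟨ruoxP.perm 4060, ruo_mem ruoXM ruoXMI ruox_ok ruox_linF ruox_linG ruox_sift⟩

/-- the element conjugating `u` -/
def ruoy : ↥RuG := ⟨ruoyP.perm 4060, ruo_mem ruoYM ruoYMI ruoy_ok ruoy_linF ruoy_linG ruoy_sift⟩

theorem ruoc_rep : PgRep ruocP.f ruoc.1 := PgRep.perm ruoc_ok

theorem ruou_rep : PgRep ruouP.f ruou.1 := PgRep.perm ruou_ok

theorem ruot_rep : PgRep ruotP.f ruot.1 := PgRep.perm ruot_ok

theorem ruox_rep : PgRep ruoxP.f ruox.1 := PgRep.perm ruox_ok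

theorem ruoxi_rep : PgRep ruoxP.g ruox.1⁻¹ := PgRep.perm_inv ruox_ok

theorem ruoy_rep : PgRep ruoyP.f ruoy.1 := PgRep.perm ruoy_ok

theorem ruoyi_rep : PgRep ruoyP.g ruoy.1⁻¹ := PgRep.perm_inv ruoy_ok

theorem ruo_rep_pow {n : ℕ} {f : ℕ → ℕ} {a : Equiv.Perm (Fin n)} (hf : PgRep f a) (k : ℕ) :
    PgRep (pgIter f k) (a ^ k) := fun p => pgIter_perm a f hf k p

theorem ruoz_rep : PgRep (pgIter ruouP.f 7) (ruou.1 ^ 7) := ruo_rep_pow ruou_rep 7

theorem ruovc_rep : PgRep ruovc (ruox.1 * ruoc.1 * ruox.1⁻¹) :=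
  (ruox_rep.mul ruoc_rep).mul ruoxi_rep

theorem ruovu_rep : PgRep ruovu (ruoy.1 * ruou.1 * ruoy.1⁻¹) :=
  (ruoy_rep.mul ruou_rep).mul ruoyi_rep

theorem ruozf_rep : PgRep ruozf (ruoy.1 * ruou.1 ^ 7 * ruoy.1⁻¹) :=
  (ruoy_rep.mul ruoz_rep).mul ruoyi_rep

theorem ruosf_rep : PgRep ruosf (ruoy.1 * ruot.1 * ruoy.1⁻¹) :=
  (ruoy_rep.mul ruot_rep).mul ruoyi_rep

theorem ruoszf_rep : PgRep ruoszf (ruoy.1 * (ruot.1 * ruou.1 ^ 7) * ruoy.1⁻¹) :=
  (ruoy_rep.mul (ruot_rep.mul ruoz_rep)).mul ruoyi_rep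

theorem ruoc_pow_eq : ruoc ^ 29 = 1 := by
  apply Subtype.ext
  rw [Subgroup.coe_pow, Subgroup.coe_one]
  exact (pgEq_iff (ruo_rep_pow ruoc_rep 29) PgRep.one).1 ruoc_pow

theorem ruoc_ne : ruoc ≠ 1 := by
  intro h
  have h1 : ruoc.1 = 1 := by rw [h]; rfl
  have h2 := ruoc_rep ⟨0, by norm_num⟩
  rw [h1] at h2
  have h3 : ruocP.f 0 = 0 := h2
  have h4 := ruoc_zero
  rw [h3] at h4
  exact absurd h4 (by decide)

theorem ruoc_order : orderOf ruoc = 29 := by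
  have : Fact (Nat.Prime 29) := ⟨by norm_num⟩
  exact orderOf_eq_prime ruoc_pow_eq ruoc_ne

theorem ruouc_eq : ruou * ruoc * ruou⁻¹ = ruoc ^ 4 := by
  have h : ruou.1 * ruoc.1 = ruoc.1 * (ruoc.1 * (ruoc.1 * (ruoc.1 * ruou.1))) :=
    (pgEq_iff (ruou_rep.mul ruoc_rep)
      (ruoc_rep.mul (ruoc_rep.mul (ruoc_rep.mul (ruoc_rep.mul ruou_rep))))).1 ruouc
  have h' : ruou * ruoc = ruoc * (ruoc * (ruoc * (ruoc * ruou))) := Subtype.ext h
  have e : ruoc ^ 4 = ruoc * (ruoc * (ruoc * ruoc)) := by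
    rw [pow_succ', pow_succ', pow_succ', pow_one]
  rw [h', e]
  simp only [mul_assoc, mul_inv_cancel, mul_one]

theorem ruott_eq : ruot * ruot = 1 := by
  apply Subtype.ext
  exact (pgEq_iff (ruot_rep.mul ruot_rep) PgRep.one).1 ruott

theorem ruot_ne_one : ruot ≠ 1 := by
  intro h
  have h1 : ruot.1 = 1 := by rw [h]; rfl
  exact (pgEq_false_iff ruot_rep PgRep.one).1 ruot_ne1 h1

theorem ruot_ne_z : ruot ≠ ruou ^ 7 := by
  intro h
  have h1 : ruot.1 = ruou.1 ^ 7 := by rw [h]; rfl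
  exact (pgEq_false_iff ruot_rep ruoz_rep).1 ruot_ne h1

theorem ruotu_eq : ruot * ruou = ruou * ruot := by
  apply Subtype.ext
  exact (pgEq_iff (ruot_rep.mul ruou_rep) (ruou_rep.mul ruot_rep)).1 ruotu

theorem ruorel1_eq : (ruoc * ruot) ^ 29 = 1 := by
  apply Subtype.ext
  rw [Subgroup.coe_pow, Subgroup.coe_one]
  exact (pgEq_iff (ruo_rep_pow (ruoc_rep.mul ruot_rep) 29) PgRep.one).1 ruorel1

theorem ruonrel1_ne : (ruoc ^ 2 * ruot) ^ 29 ≠ 1 := by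
  intro h
  have e : ((ruoc ^ 2 * ruot : ↥RuG) : Equiv.Perm (Fin 4060)) = ruoc.1 * (ruoc.1 * ruot.1) := by
    rw [Subgroup.coe_mul, Subgroup.coe_pow, pow_two, mul_assoc]
  have h1 : (ruoc.1 * (ruoc.1 * ruot.1)) ^ 29 = 1 := by
    rw [← e, ← Subgroup.coe_pow, h, Subgroup.coe_one]
  exact (pgEq_false_iff (ruo_rep_pow (ruoc_rep.mul (ruoc_rep.mul ruot_rep)) 29) PgRep.one).1
    ruonrel1 h1

theorem ruonrel2_ne : (ruoc * (ruot * ruou ^ 7)) ^ 29 ≠ 1 := by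
  intro h
  have h1 : (ruoc.1 * (ruot.1 * ruou.1 ^ 7)) ^ 29 = 1 := by
    have := congrArg Subtype.val h
    rwa [Subgroup.coe_pow] at this
  exact (pgEq_false_iff (ruo_rep_pow (ruoc_rep.mul (ruot_rep.mul ruoz_rep)) 29) PgRep.one).1
    ruonrel2 h1

theorem ruorel3_eq : (ruoc * ruou * ruot) ^ 20 = 1 := by
  apply Subtype.ext
  rw [Subgroup.coe_pow, Subgroup.coe_one]
  have h : (ruoc.1 * (ruou.1 * ruot.1)) ^ 20 = 1 :=
    (pgEq_iff (ruo_rep_pow (ruoc_rep.mul (ruou_rep.mul ruot_rep)) 20) PgRep.one).1 ruorel3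
  have e : ((ruoc * ruou * ruot : ↥RuG) : Equiv.Perm (Fin 4060)) = ruoc.1 * (ruou.1 * ruot.1) := by
    rw [Subgroup.coe_mul, Subgroup.coe_mul, mul_assoc]
  rw [e, h]

theorem ruonrel3_ne : (ruoc ^ 2 * ruou * (ruot * ruou ^ 7)) ^ 20 ≠ 1 := by
  intro h
  have e : ((ruoc ^ 2 * ruou * (ruot * ruou ^ 7) : ↥RuG) : Equiv.Perm (Fin 4060)) =
      ruoc.1 * (ruoc.1 * (ruou.1 * (ruot.1 * ruou.1 ^ 7))) := by
    rw [Subgroup.coe_mul, Subgroup.coe_mul, Subgroup.coe_mul, Subgroup.coe_pow,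
      Subgroup.coe_pow, pow_two, mul_assoc, mul_assoc]
  have h1 : (ruoc.1 * (ruoc.1 * (ruou.1 * (ruot.1 * ruou.1 ^ 7)))) ^ 20 = 1 := by
    rw [← e, ← Subgroup.coe_pow, h, Subgroup.coe_one]
  exact (pgEq_false_iff (ruo_rep_pow
    (ruoc_rep.mul (ruoc_rep.mul (ruou_rep.mul (ruot_rep.mul ruoz_rep)))) 20) PgRep.one).1
    ruonrel3 h1

theorem ruobaseR_lt : ∀ β ∈ ruobaseR, β < 4060 := by decide

theorem ruo_chk : pgChkW 4060 ruR.base (ruL1 :: ruoC2) = true := ruchkC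

theorem ruo_leA : pgGrpW 4060 (ruL1 :: ruoC2) ≤ ruR.A := ruA

theorem ruo_orbs : ∀ L' ∈ ruoC2, ∀ z < 4060, L'.inO z = true → z ∈ ruoOrb L'.b := by
  intro L' hL' z hz hin
  unfold ruoC2 at hL'
  simp only [List.mem_cons, List.not_mem_nil, or_false] at hL'
  rcases hL' with rfl | rfl | rfl | rfl
  · change z ∈ List.range 4060
    exact List.mem_range.2 hz
  · change z ∈ List.range 4060
    exact List.mem_range.2 hz
  · change z ∈ [3, 31, 429, 546, 1065, 1207]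
    have h1 := (pgAll_iff _ _).1 ruoorb4 z hz
    rw [hin] at h1
    simp only [cond_true] at h1
    obtain ⟨o, ho, hzo⟩ := (pgAnyL_iff _ _).1 h1
    rw [Nat.beq_eq] at hzo
    rw [hzo]
    exact ho
  · change z ∈ [6, 8, 21, 22]
    have h1 := (pgAll_iff _ _).1 ruoorb5 z hz
    rw [hin] at h1
    simp only [cond_true] at h1
    obtain ⟨o, ho, hzo⟩ := (pgAnyL_iff _ _).1 h1
    rw [Nat.beq_eq] at hzo
    rw [hzo]
    exact ho

theorem ruo_memA (g : ↥RuG) : g.1 ∈ ruR.A := ruA g.2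

/-- the centraliser of `c` has exponent 29 -/
theorem ruo_cent_c (h : ↥RuG) (hc : h * ruoc = ruoc * h) : h ^ 29 = 1 := by
  set h' : ↥RuG := ruox * h * ruox⁻¹ with hh'
  have hcomm' : h' * (ruox * ruoc * ruox⁻¹) = (ruox * ruoc * ruox⁻¹) * h' := by
    calc h' * (ruox * ruoc * ruox⁻¹) = ruox * (h * ruoc) * ruox⁻¹ := by rw [hh']; group
      _ = ruox * (ruoc * h) * ruox⁻¹ := by rw [hc]
      _ = (ruox * ruoc * ruox⁻¹) * h' := by rw [hh']; group
  have hcomm : h'.1 * (ruox.1 * ruoc.1 * ruox.1⁻¹) = (ruox.1 * ruoc.1 * ruox.1⁻¹) * h'.1 :=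
    congrArg Subtype.val hcomm'
  obtain ⟨f, hf, ht⟩ := ruoCent_sound ruR ruo_chk ruo_leA ruovc ruoOrb ruotestC
    (ruox.1 * ruoc.1 * ruox.1⁻¹) ruovc_rep ruo_orbs ruocentc h'.1 h'.2 hcomm
  obtain ⟨k, -, hk⟩ := ruoTestC_spec ruobaseR_lt hf ruovc_rep hcomm ht
  have hvA : (ruox.1 * ruoc.1 * ruox.1⁻¹) ^ k ∈ ruR.A :=
    ruo_memA ((ruox * ruoc * ruox⁻¹) ^ k)
  have h1 : h'.1 = (ruox.1 * ruoc.1 * ruox.1⁻¹) ^ k :=
    ruoEqL_rigid ruR (ruo_memA h') hvA hf (ruo_rep_pow ruovc_rep k) hk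
  have h1' : h' = (ruox * ruoc * ruox⁻¹) ^ k := Subtype.ext h1
  have h29 : h' ^ 29 = 1 := by
    rw [h1', ← pow_mul, mul_comm, pow_mul, conj_pow, ruoc_pow_eq]
    simp
  calc h ^ 29 = (ruox⁻¹ * h' * ruox) ^ 29 := by rw [hh']; group
    _ = ruox⁻¹ * h' ^ 29 * ruox := by
      have := conj_pow (a := ruox⁻¹) (b := h') (i := 29)
      rw [inv_inv] at this
      exact this
    _ = 1 := by rw [h29]; group

/-- the involutions of the centraliser of `u` -/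
theorem ruo_cent_u (h : ↥RuG) (hc : h * ruou = ruou * h) (h2 : h * h = 1) :
    h = 1 ∨ h = ruou ^ 7 ∨ h = ruot ∨ h = ruot * ruou ^ 7 := by
  set h' : ↥RuG := ruoy * h * ruoy⁻¹ with hh'
  have hcomm' : h' * (ruoy * ruou * ruoy⁻¹) = (ruoy * ruou * ruoy⁻¹) * h' := by
    calc h' * (ruoy * ruou * ruoy⁻¹) = ruoy * (h * ruou) * ruoy⁻¹ := by rw [hh']; group
      _ = ruoy * (ruou * h) * ruoy⁻¹ := by rw [hc]
      _ = (ruoy * ruou * ruoy⁻¹) * h' := by rw [hh']; group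
  have hcomm : h'.1 * (ruoy.1 * ruou.1 * ruoy.1⁻¹) = (ruoy.1 * ruou.1 * ruoy.1⁻¹) * h'.1 :=
    congrArg Subtype.val hcomm'
  have h2' : h'.1 * h'.1 = 1 := by
    have : h' * h' = 1 := by
      calc h' * h' = ruoy * (h * h) * ruoy⁻¹ := by rw [hh']; group
        _ = 1 := by rw [h2]; group
    exact congrArg Subtype.val this
  obtain ⟨f, hf, ht⟩ := ruoCent_sound ruR ruo_chk ruo_leA ruovu ruoOrb ruotestU
    (ruoy.1 * ruou.1 * ruoy.1⁻¹) ruovu_rep ruo_orbs ruocentu h'.1 h'.2 hcomm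
  obtain ⟨g, hg, hfg⟩ := ruoTestI_spec ruobaseR_lt hf ruovu_rep hcomm h2' ht
  have back : ∀ w : ↥RuG, h'.1 = ruoy.1 * w.1 * ruoy.1⁻¹ → h = w := by
    intro w hw
    have h1' : h' = ruoy * w * ruoy⁻¹ := Subtype.ext hw
    calc h = ruoy⁻¹ * h' * ruoy := by rw [hh']; group
      _ = w := by rw [h1']; group
  simp only [List.mem_cons, List.not_mem_nil, or_false] at hg
  rcases hg with rfl | rfl | rfl | rfl
  · left
    have h1 : h'.1 = 1 := ruoEqL_rigid ruR (ruo_memA h') (one_mem _) hf PgRep.one hfg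
    apply back 1
    rw [h1]
    change (1 : Equiv.Perm (Fin 4060)) = ruoy.1 * 1 * ruoy.1⁻¹
    group
  · right; left
    exact back (ruou ^ 7) (ruoEqL_rigid ruR (ruo_memA h') (ruo_memA (ruoy * ruou ^ 7 * ruoy⁻¹)) hf
      ruozf_rep hfg)
  · right; right; left
    exact back ruot (ruoEqL_rigid ruR (ruo_memA h') (ruo_memA (ruoy * ruot * ruoy⁻¹)) hf
      ruosf_rep hfg)
  · right; right; right
    exact back (ruot * ruou ^ 7) (ruoEqL_rigid ruR (ruo_memA h')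
      (ruo_memA (ruoy * (ruot * ruou ^ 7) * ruoy⁻¹)) hf ruoszf_rep hfg)

theorem ruogs_ok : ∀ P ∈ ruogs, P.ok 4060 = true := by
  intro P hP
  unfold ruogs at hP
  simp only [List.mem_cons, List.not_mem_nil, or_false] at hP
  rcases hP with rfl | rfl | rfl
  · exact ruoc_ok
  · exact ruou_ok
  · exact ruot_ok

/-- the three elements generate -/
theorem ruo_gen : closure {ruoc, ruou, ruot} = (⊤ : Subgroup ↥RuG) := by
  have hle : pgGrpW 4060 ruC ≤ closure (pgSet 4060 ruogs) :=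
    pgGrpW_le_of_words ruok ruogs_ok ruowords
  rw [eq_top_iff]
  intro y _
  have hy : y.1 ∈ closure (pgSet 4060 ruogs) := hle y.2
  have key : ∀ z : Equiv.Perm (Fin 4060), z ∈ closure (pgSet 4060 ruogs) →
      ∃ hz : z ∈ RuG, (⟨z, hz⟩ : ↥RuG) ∈ closure {ruoc, ruou, ruot} := by
    intro z hz
    induction hz using closure_induction with
    | mem w hw =>
      obtain ⟨P, hP, rfl⟩ := hw
      unfold ruogs at hP
      simp only [List.mem_cons, List.not_mem_nil, or_false] at hP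
      rcases hP with rfl | rfl | rfl
      · exact ⟨ruoc.2, subset_closure (by simp [ruoc])⟩
      · exact ⟨ruou.2, subset_closure (by simp [ruou])⟩
      · exact ⟨ruot.2, subset_closure (by simp [ruot])⟩
    | one => exact ⟨one_mem _, one_mem _⟩
    | mul a b _ _ ha hb =>
      obtain ⟨ha1, ha2⟩ := ha
      obtain ⟨hb1, hb2⟩ := hb
      exact ⟨mul_mem ha1 hb1, mul_mem ha2 hb2⟩
    | inv a _ ha =>
      obtain ⟨ha1, ha2⟩ := ha
      exact ⟨inv_mem ha1, inv_mem ha2⟩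
  obtain ⟨_, h2⟩ := key y.1 hy
  exact h2

theorem ruo_fact29 : (Nat.card ↥RuG).factorization 29 = 1 := by
  rw [rucard]
  have e : (145926144000 : ℕ) = 29 ^ 1 * 5031936000 := by norm_num
  rw [e, Nat.factorization_mul (by norm_num) (by norm_num),
    Nat.Prime.factorization_pow (by norm_num)]
  have : (5031936000 : ℕ).factorization 29 = 0 :=
    Nat.factorization_eq_zero_of_not_dvd (by norm_num)
  simp [this]

theorem ruo_units : ∀ j : ℕ, 0 < j → j < 29 →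
    ∃ i : ℕ, 4 ^ i * j % 29 = 1 ∨ 4 ^ i * j % 29 = 2 := by
  have h : ∀ j : Fin 29, 0 < j.1 →
      ∃ i : Fin 14, 4 ^ i.1 * j.1 % 29 = 1 ∨ 4 ^ i.1 * j.1 % 29 = 2 := by decide
  intro j h0 h1
  obtain ⟨i, hi⟩ := h ⟨j, h1⟩ h0
  exact ⟨i.1, hi⟩

instance ruo_finite : Finite ↥RuG := Nat.finite_of_card_ne_zero (by rw [rucard]; norm_num)

/-- every automorphism of the concrete Rudvalis group is inner -/
theorem ruo_out : Nat.card (Cfsg.Out ↥(pgGrpW 4060 ruC)) = 1 := by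
  have : Fact (Nat.Prime 29) := ⟨by norm_num⟩
  exact ruo_card_out 29 4 10 2 15 29 20 ruoc ruou ruot ruo_fact29 ruoc_order ruo_cent_c
    ruouc_eq (by norm_num) ruo_units (by norm_num) (by norm_num) ruot_ne_one ruot_ne_z ruott_eq
    ruotu_eq ruo_cent_u ruo_gen ruorel1_eq ruonrel1_ne ruonrel2_ne ruorel3_eq ruonrel3_ne

end Cfsg.Agent.Lib.helper17.RuOut
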